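import Mathlib.FieldTheory.Finite.Basic
import Mathlib.Tactic.NormNum.Prime

/-!
# Section Z, small bad case: arithmetic of `A(3 ^ n) = 3^(2n) - 3ⁿ + 1`

Owner: helper87.
-/

set_option autoImplicit false
set_option linter.style.haveILetI false

namespace Cfsg.Agent.Lib.Walter.NoField.SmallBad

private theorem three_cube : (3 : ZMod 13) ^ 3 = 1 := by decide

private theorem two_ne_zero13 : (1 + 1 : ZMod 13) ≠ 0 := by decide

private theorem nine_order : ((3 : ZMod 7) ^ 2) ^ 3 = 1 ∧ (3 : ZMod 7) ^ 2 ≠ 1 := by decide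

theorem add_one_mul (Q : ℕ) : (Q + 1) * (Q ^ 2 - Q + 1) = Q ^ 3 + 1 := by
  obtain ⟨A, hA⟩ : ∃ A, A = Q ^ 2 - Q + 1 := ⟨_, rfl⟩
  have hAQ : A + Q = Q ^ 2 + 1 := by
    have : Q ≤ Q ^ 2 := Nat.le_self_pow two_ne_zero Q
    omega
  rw [← hA]
  have h : (Q + 1) * (A + Q) = (Q + 1) * (Q ^ 2 + 1) := by rw [hAQ]
  nlinarith

/-- A prime dividing `A(3 ^ n)`, all primes of `n` at least as large, is seven. -/
theorem eq_seven {l n : ℕ} (hl : l.Prime) (h5 : 5 ≤ l)
    (hn : ∀ p : ℕ, p.Prime → p ∣ n → l ≤ p) (h : l ∣ (3 ^ n) ^ 2 - 3 ^ n + 1) : l = 7 := by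
  haveI : Fact l.Prime := ⟨hl⟩
  have h1 : ((3 : ZMod l)) ^ (3 * n) + 1 = 0 := by
    have h' : l ∣ (3 ^ n) ^ 3 + 1 := add_one_mul (3 ^ n) ▸ Dvd.dvd.mul_left h _
    rw [← pow_mul, ← ZMod.natCast_eq_zero_iff] at h'
    push_cast at h'
    rwa [mul_comm n 3] at h'
  have h3 : (3 : ZMod l) ≠ 0 := by
    intro h0
    have : l ∣ 3 := (ZMod.natCast_eq_zero_iff 3 l).1 (by simpa using h0)
    have := Nat.le_of_dvd (by norm_num) this
    omega
  have h6n : orderOf (3 : ZMod l) ∣ 6 * n := by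
    refine orderOf_dvd_of_pow_eq_one ?_
    rw [show 6 * n = (3 * n) * 2 by ring, pow_mul, eq_neg_of_add_eq_zero_left h1]
    ring
  have hl1 : orderOf (3 : ZMod l) ∣ l - 1 :=
    orderOf_dvd_of_pow_eq_one (ZMod.pow_card_sub_one_eq_one h3)
  have hcop : Nat.Coprime (l - 1) n := by
    refine Nat.coprime_of_dvd fun p hp hp1 hp2 => ?_
    have := hn p hp hp2
    have := Nat.le_of_dvd (by omega) hp1
    omega
  have h6 : (3 : ZMod l) ^ 6 = 1 :=
    orderOf_dvd_iff_pow_eq_one.1 ((hcop.coprime_dvd_left hl1).dvd_of_dvd_mul_right h6n)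
  have h728 : l ∣ 8 * (7 * 13) := by
    rw [← ZMod.natCast_eq_zero_iff]
    have h : (3 : ZMod l) ^ 6 - 1 = 0 := by rw [h6, sub_self]
    push_cast
    rw [← h]
    norm_num
  rcases hl.dvd_mul.1 h728 with h8 | h91
  · have := (Nat.prime_dvd_prime_iff_eq hl Nat.prime_two).1
      (hl.dvd_of_dvd_pow (show l ∣ 2 ^ 3 by norm_num; exact h8))
    omega
  rcases hl.dvd_mul.1 h91 with h7 | h13
  · exact (Nat.prime_dvd_prime_iff_eq hl (by norm_num)).1 h7
  · exfalso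
    obtain rfl := (Nat.prime_dvd_prime_iff_eq hl (by norm_num)).1 h13
    rw [pow_mul, three_cube, one_pow] at h1
    exact two_ne_zero13 h1

theorem not_dvd_seven {n : ℕ} (h7 : ¬ 7 ∣ n) : ¬ 49 ∣ (3 ^ n) ^ 2 - 3 ^ n + 1 := by
  intro h
  have h' : 49 ∣ (3 ^ n) ^ 3 + 1 := add_one_mul (3 ^ n) ▸ Dvd.dvd.mul_left h _
  rw [← ZMod.natCast_eq_zero_iff] at h'
  push_cast at h'
  have hpow : ∀ k : ℕ, ((729 : ZMod 49)) ^ k = 1 + 42 * (k : ZMod 49) := by
    intro k
    induction k with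
    | zero => simp
    | succ k ih =>
      rw [pow_succ, ih, show (729 : ZMod 49) = 1 + 42 by decide]
      have h0 : (42 : ZMod 49) * 42 = 0 := by decide
      push_cast
      linear_combination (k : ZMod 49) * h0
  have h729 : (729 : ZMod 49) ^ n = 1 := by
    rw [show (729 : ZMod 49) = (3 : ZMod 49) ^ 6 by norm_num, ← pow_mul,
      show 6 * n = n * 3 * 2 by ring, pow_mul, pow_mul, eq_neg_of_add_eq_zero_left h']
    ring
  rw [hpow] at h729
  have h42 : ((42 * n : ℕ) : ZMod 49) = 0 := by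
    push_cast
    linear_combination h729
  rw [ZMod.natCast_eq_zero_iff] at h42
  exact h7 (Nat.Coprime.dvd_of_dvd_mul_left (show Nat.Coprime 7 6 by norm_num)
    (Nat.dvd_of_mul_dvd_mul_left (show 0 < 7 by norm_num) (show 7 * 7 ∣ 7 * (6 * n) by
      rw [← mul_assoc]; exact h42)))

theorem not_seven_dvd_prod {n : ℕ} (h3 : ¬ 3 ∣ n) :
    ¬ 7 ∣ 3 ^ n * (3 ^ n - 1) * (3 ^ n + 1) := by
  haveI : Fact (Nat.Prime 7) := ⟨by norm_num⟩
  intro h
  have h7 : Nat.Prime 7 := by norm_num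
  have hor : (3 : ZMod 7) ^ (2 * n) = 1 := by
    rcases h7.dvd_mul.1 h with h' | h'
    · rcases h7.dvd_mul.1 h' with h'' | h''
      · exact absurd (h7.dvd_of_dvd_pow h'') (by norm_num)
      · rw [← ZMod.natCast_eq_zero_iff, Nat.cast_sub (Nat.one_le_pow _ _ (by norm_num))] at h''
        push_cast at h''
        rw [mul_comm, pow_mul, sub_eq_zero.1 h'', one_pow]
    · rw [← ZMod.natCast_eq_zero_iff] at h'
      push_cast at h'
      rw [mul_comm, pow_mul, eq_neg_of_add_eq_zero_left h']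
      ring
  rw [pow_mul] at hor
  have ho : orderOf ((3 : ZMod 7) ^ 2) = 3 := orderOf_eq_prime nine_order.1 nine_order.2
  exact h3 (ho ▸ orderOf_dvd_of_pow_eq_one hor)

end Cfsg.Agent.Lib.Walter.NoField.SmallBad
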