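import Cfsg.Agent.Lib.Walter.NoField.Local
import Cfsg.Agent.Lib.Walter.NoField.Transfer

/-!
# Section Z, small bad case: `|C(y, u)|`, and elements of orders 7 and 3 of `N(S)`

For `y ∈ F`, `|C(y, u)| = 2 |F| |E₀ ∩ C(y)|`.  If `3 ∤ |F|`, `N(S)` has `w` of order 7 outside
`C(S)` and `d` of order 3 with `w ^ d = w ^ k`, `k` of order 3 modulo 7.

Owner: helper87.
-/

set_option autoImplicit false
set_option linter.style.haveILetI false
set_option linter.unusedSectionVars false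

universe u

namespace Cfsg.Agent.Lib.Walter.NoField.SmallBad

open Subgroup

variable {G : Type u} [Group G] [Finite G] {S : Sylow 2 G} {t : G} {E E₀ : Subgroup G}

theorem card_pair (C : Ctx S t E E₀) {x : G} (hx : x ∈ fieldPart S) :
    Nat.card ↥(centralizer ({x, t} : Set G)) =
      2 * Nat.card ↥(fieldPart S) * Nat.card ↥(E₀ ⊓ centralizer ({x} : Set G)) := by
  have hmem : ∀ (z e f : G), z ∈ zpowers t → e ∈ E₀ ⊓ centralizer ({x} : Set G) →
      f ∈ fieldPart S → z * e * f ∈ centralizer ({x, t} : Set G) := by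
    intro z e f hz he hf
    obtain ⟨i, rfl⟩ := mem_zpowers_iff.1 hz
    refine mem_centralizer_pair.2 ⟨?_, ?_⟩
    · exact (((show Commute t x from (C.comm_u hx).symm).zpow_left i).mul_left
        (show Commute e x from mem_centralizer_singleton_iff.1 he.2)).mul_left
          (show Commute f x from C.comm_fieldPart hf hx)
    · exact (((Commute.refl t).zpow_left i).mul_left
        (show Commute e t from C.mem_cent e (C.conf.le he.1))).mul_left
          (show Commute f t from C.comm_u hf)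
  let φ : ↥(zpowers t) × ↥(E₀ ⊓ centralizer ({x} : Set G)) × ↥(fieldPart S) →
      ↥(centralizer ({x, t} : Set G)) := fun p =>
    ⟨p.1 * p.2.1 * p.2.2, hmem _ _ _ p.1.2 p.2.1.2 p.2.2.2⟩
  have hφ : Function.Bijective φ := by
    constructor
    · rintro ⟨⟨z, hz⟩, ⟨e, he⟩, ⟨f, hf⟩⟩ ⟨⟨z', hz'⟩, ⟨e', he'⟩, ⟨f', hf'⟩⟩ h
      have h' : z * e * f = z' * e' * f' := congrArg Subtype.val h
      have hzz : z'⁻¹ * z ∈ zpowers t ⊓ E := by
        refine mem_inf.2 ⟨mul_mem (inv_mem hz') hz, ?_⟩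
        rw [show z'⁻¹ * z = z'⁻¹ * (z * e * f) * f⁻¹ * e⁻¹ by group, h',
          show z'⁻¹ * (z' * e' * f') * f⁻¹ * e⁻¹ = e' * f' * f⁻¹ * e⁻¹ by group]
        exact mul_mem (mul_mem (mul_mem (C.conf.le (mem_inf.1 he').1) (C.fieldPart_le hf'))
          (inv_mem (C.fieldPart_le hf))) (inv_mem (C.conf.le (mem_inf.1 he).1))
      rw [C.cent.1.2.2.2.1, mem_bot, inv_mul_eq_one] at hzz
      subst hzz
      rw [mul_assoc, mul_assoc] at h'
      have h1 : e * f = e' * f' := mul_left_cancel h'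
      have hee : e'⁻¹ * e ∈ fieldPart S ⊓ E₀ := by
        refine mem_inf.2 ⟨?_, mul_mem (inv_mem (mem_inf.1 he').1) (mem_inf.1 he).1⟩
        rw [show e'⁻¹ * e = e'⁻¹ * (e * f) * f⁻¹ by group, h1,
          show e'⁻¹ * (e' * f') * f⁻¹ = f' * f⁻¹ by group]
        exact mul_mem hf' (inv_mem hf)
      rw [C.fieldPart_inf, mem_bot, inv_mul_eq_one] at hee
      subst hee
      obtain rfl := mul_left_cancel h1
      rfl
    · rintro ⟨g, hg⟩
      obtain ⟨hgx, hgt⟩ := mem_centralizer_pair.1 hg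
      obtain ⟨e, he, hge⟩ := C.conf.decomp g hgt
      obtain ⟨h, hh, f, hf, rfl⟩ := C.exists_mul he
      have hfx : Commute f x := C.comm_fieldPart hf hx
      have htx : Commute t x := (C.comm_u hx).symm
      rcases hge with rfl | rfl
      · have hhx : Commute h x := by
          have := (show Commute (h * f) x from hgx).mul_left hfx.inv_left
          rwa [mul_inv_cancel_right] at this
        exact ⟨(⟨1, one_mem _⟩, ⟨h, hh, mem_centralizer_singleton_iff.2 hhx.eq⟩, ⟨f, hf⟩),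
          Subtype.ext (show 1 * h * f = h * f by rw [one_mul])⟩
      · have hhx : Commute h x := by
          have := (htx.inv_left.mul_left (show Commute (t * (h * f)) x from hgx)).mul_left
            hfx.inv_left
          rwa [inv_mul_cancel_left, mul_inv_cancel_right] at this
        exact ⟨(⟨t, mem_zpowers t⟩, ⟨h, hh, mem_centralizer_singleton_iff.2 hhx.eq⟩, ⟨f, hf⟩),
          Subtype.ext (show t * h * f = t * (h * f) by rw [mul_assoc])⟩
  rw [← Nat.card_congr (Equiv.ofBijective φ hφ), Nat.card_prod, Nat.card_prod, Nat.card_zpowers,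
    C.ord]
  ring

theorem card_centralizer (C : Ctx S t E E₀) {x : G} (hx : x ∈ fieldPart S) :
    Nat.card ↥(centralizer ({x} : Set G)) =
      (centralizer ({x, t} : Set G)).relIndex (centralizer ({x} : Set G)) *
        (2 * Nat.card ↥(fieldPart S) * Nat.card ↥(E₀ ⊓ centralizer ({x} : Set G))) := by
  have hle : centralizer ({x, t} : Set G) ≤ centralizer ({x} : Set G) :=
    centralizer_le (Set.singleton_subset_iff.2 (Set.mem_insert x _))
  have h := ((centralizer ({x, t} : Set G)).subgroupOf (centralizer ({x} : Set G))).card_mul_index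
  rw [Nat.card_congr (subgroupOfEquivOfLe hle).toEquiv, card_pair C hx] at h
  rw [← h, relIndex, mul_comm]

theorem card_centralizer_sylow (C : Ctx S t E E₀) :
    Nat.card ↥(centralizer ((S : Subgroup G) : Set G)) = 8 * Nat.card ↥(fieldPart S) := by
  have hmem : ∀ (f s : G), f ∈ fieldPart S → s ∈ (S : Subgroup G) →
      f * s ∈ centralizer ((S : Subgroup G) : Set G) := fun f s hf hs =>
    mul_mem (fieldPart_le_centralizer S hf)
      (mem_centralizer_iff.2 fun y hy => C.comm hy hs)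
  let φ : ↥(fieldPart S) × ↥(S : Subgroup G) → ↥(centralizer ((S : Subgroup G) : Set G)) :=
    fun p => ⟨p.1 * p.2, hmem _ _ p.1.2 p.2.2⟩
  have hφ : Function.Bijective φ := by
    constructor
    · rintro ⟨⟨f, hf⟩, ⟨s, hs⟩⟩ ⟨⟨f', hf'⟩, ⟨s', hs'⟩⟩ h
      have h' : f * s = f' * s' := congrArg Subtype.val h
      have e : f'⁻¹ * f = s' * s⁻¹ := by
        rw [show s' * s⁻¹ = f'⁻¹ * (f' * s') * s⁻¹ by group, ← h']
        group
      have hm : s' * s⁻¹ ∈ (S : Subgroup G) := mul_mem hs' (inv_mem hs)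
      have h1 : f'⁻¹ * f = 1 := JRBal.eq_one_of_sq_odd (odd_fieldPart S)
        (mul_mem (inv_mem hf') hf) (by rw [e]; exact C.sq hm)
      rw [inv_mul_eq_one] at h1
      subst h1
      obtain rfl := mul_left_cancel h'
      rfl
    · rintro ⟨g, hg⟩
      obtain ⟨f, hf, s, hs, rfl⟩ := C.exists_mul_fieldPart hg
      exact ⟨(⟨f, hf⟩, ⟨s, hs⟩), rfl⟩
  rw [← Nat.card_congr (Equiv.ofBijective φ hφ), Nat.card_prod, C.jr.card_sylow S, mul_comm]

set_option maxHeartbeats 1000000 in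
/-- The elements `w` and `d`. -/
theorem exists_wd (C : Ctx S t E E₀) (h3 : ¬ 3 ∣ Nat.card ↥(fieldPart S)) :
    ∃ (w d : G) (k : ℕ), orderOf w = 7 ∧ w ∈ normalizer ((S : Subgroup G) : Set G) ∧
      w ∉ centralizer ((S : Subgroup G) : Set G) ∧ d ∈ normalizer ((S : Subgroup G) : Set G) ∧
      orderOf d = 3 ∧ d * w * d⁻¹ = w ^ k ∧ ¬ k ≡ 1 [MOD 7] ∧ k ^ 3 ≡ 1 [MOD 7] := by
  classical
  haveI : Fact (Nat.Prime 7) := ⟨by norm_num⟩
  haveI : Fact (Nat.Prime 3) := ⟨Nat.prime_three⟩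
  set N := normalizer ((S : Subgroup G) : Set G) with hN
  set Z := (centralizer ((S : Subgroup G) : Set G)).subgroupOf N with hZ
  haveI hZn : Z.Normal := ⟨fun v hv g => mem_subgroupOf.2
    (conj_mem_centralizer_of_mem_normalizer g.2 (mem_subgroupOf.1 hv))⟩
  have hi : Z.index = 21 := C.relIndex_centralizer
  have hZc : Nat.card ↥Z = 8 * Nat.card ↥(fieldPart S) :=
    (Nat.card_congr (subgroupOfEquivOfLe (centralizer_le_normalizer _)).toEquiv).trans
      (card_centralizer_sylow C)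
  set π := QuotientGroup.mk' Z with hπ
  have hQ : Nat.card (↥N ⧸ Z) = 21 := hi
  obtain ⟨K⟩ : Nonempty (Sylow 7 (↥N ⧸ Z)) := inferInstance
  have hK : Nat.card ↥(K : Subgroup (↥N ⧸ Z)) = 7 := by
    rw [K.card_eq_multiplicity, hQ, show Nat.factorization 21 7 = 1 from ?_, pow_one]
    rw [show (21 : ℕ) = 3 * 7 by norm_num, Nat.factorization_mul (by norm_num) (by norm_num),
      Finsupp.add_apply, Nat.Prime.factorization Nat.prime_three,
      Nat.Prime.factorization (show Nat.Prime 7 by norm_num)]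
    simp
  have hKi : (K : Subgroup (↥N ⧸ Z)).index = 3 := by
    have h := (K : Subgroup (↥N ⧸ Z)).card_mul_index
    rw [hK, hQ] at h
    omega
  haveI : Subsingleton (Sylow 7 (↥N ⧸ Z)) := by
    have hd := K.card_dvd_index
    rw [hKi] at hd
    have hm : Nat.card (Sylow 7 (↥N ⧸ Z)) % 7 = 1 := card_sylow_modEq_one 7 _
    refine (Nat.card_eq_one_iff_unique.1 ?_).1
    rcases (Nat.dvd_prime Nat.prime_three).1 hd with h | h
    · exact h
    · rw [h] at hm; omega
  haveI : (K : Subgroup (↥N ⧸ Z)).Normal := Sylow.normal_of_subsingleton K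
  set M := (K : Subgroup (↥N ⧸ Z)).comap π with hM
  haveI : M.Normal := inferInstance
  have hMi : M.index = 3 := by
    rw [hM, index_comap_of_surjective _ (QuotientGroup.mk'_surjective Z), hKi]
  obtain ⟨P⟩ : Nonempty (Sylow 7 ↥M) := inferInstance
  set P' := (P : Subgroup ↥M).map M.subtype with hP'
  have hP'p : IsPGroup 7 ↥P' := P.isPGroup'.map _
  set NP := normalizer (P' : Set ↥N) with hNP
  have h3NP : 3 ∣ Nat.card ↥NP := by
    have h1 : NP ⊔ M = ⊤ := Sylow.normalizer_sup_eq_top P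
    have h2 : M.relIndex NP = 3 := by
      rw [← hMi, ← relIndex_top_right M, ← h1, relIndex_sup_right]
    rw [← h2]
    exact Subgroup.index_dvd_card _
  obtain ⟨⟨δ, hδN⟩, hδo⟩ := exists_prime_orderOf_dvd_card' (G := ↥NP) 3 h3NP
  rw [Subgroup.orderOf_mk] at hδo
  have hδZ : δ ∉ Z := fun h => by
    have h1 := Subgroup.orderOf_dvd_natCard _ h
    rw [hδo, hZc] at h1
    rcases Nat.prime_three.dvd_mul.1 h1 with h' | h'
    · norm_num at h'
    · exact h3 h'
  have hδ3 : δ ^ 3 = 1 := by rw [← hδo, pow_orderOf_eq_one]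
  -- `7`-elements of `C(S)` are central
  have hcentral : ∀ a : ↥N, a ∈ P' → a ∈ Z → ∀ g : ↥N, Commute g a := by
    intro a ha haZ g
    obtain ⟨j, hj⟩ := hP'p ⟨a, ha⟩
    have hj' : (a : G) ^ 7 ^ j = 1 := congrArg Subtype.val (congrArg Subtype.val hj)
    have hF : (a : G) ∈ fieldPart S := C.mem_fieldPart (mem_subgroupOf.1 haZ)
      (((show Odd 7 by decide).pow (n := j)).of_dvd_nat (orderOf_dvd_of_pow_eq_one hj'))
    exact Subtype.ext (C.comm_normalizer g.2 hF)
  have hPK : ∀ a ∈ P', π a ∈ (K : Subgroup (↥N ⧸ Z)) := by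
    rintro _ ⟨a, -, rfl⟩
    exact a.2
  -- an element of `P'` outside `C(S)`
  obtain ⟨s, hsP, hsZ⟩ : ∃ s ∈ P', s ∉ Z := by
    by_contra h
    push Not at h
    have hle : (P : Subgroup ↥M) ≤ Z.subgroupOf M := fun a ha =>
      mem_subgroupOf.2 (h _ ⟨a, ha, rfl⟩)
    refine P.not_dvd_index (dvd_trans ?_ (index_dvd_of_le hle))
    have h1 : Z ≤ M := fun a ha => by
      rw [hM, mem_comap, show π a = 1 from (QuotientGroup.eq_one_iff a).2 ha]
      exact one_mem _
    have h2 := relIndex_mul_index h1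
    rw [hMi, hi] at h2
    rw [show (Z.subgroupOf M).index = Z.relIndex M from rfl]
    exact dvd_of_eq (by omega)
  have hgen : ∀ a ∈ P', ∃ (i : ℕ) (c : ↥N), c ∈ P' ∧ c ∈ Z ∧ a = s ^ i * c := by
    intro a ha
    have hs1 : (⟨π s, hPK s hsP⟩ : ↥(K : Subgroup (↥N ⧸ Z))) ≠ 1 := fun h =>
      hsZ ((QuotientGroup.eq_one_iff s).1 (congrArg Subtype.val h))
    obtain ⟨i, hi'⟩ := (Submonoid.mem_powers_iff _ _).1 (mem_powers_iff_mem_zpowers.2
      (mem_zpowers_of_prime_card (g' := (⟨π a, hPK a ha⟩ : ↥(K : Subgroup (↥N ⧸ Z)))) hK hs1))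
    refine ⟨i, (s ^ i)⁻¹ * a, mul_mem (inv_mem (pow_mem hsP i)) ha, ?_,
      (mul_inv_cancel_left _ _).symm⟩
    have h1 : π s ^ i = π a := congrArg Subtype.val hi'
    refine (QuotientGroup.eq_one_iff _).1 ?_
    show π ((s ^ i)⁻¹ * a) = 1
    rw [map_mul, map_inv, map_pow, h1, inv_mul_cancel]
  have hs7 : s ^ 7 ∈ Z := by
    refine (QuotientGroup.eq_one_iff _).1 ?_
    show π (s ^ 7) = 1
    have h := pow_card_eq_one' (x := (⟨π s, hPK s hsP⟩ : ↥(K : Subgroup (↥N ⧸ Z))))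
    rw [hK] at h
    rw [map_pow]
    exact congrArg Subtype.val h
  have hsδ : δ * s * δ⁻¹ ∈ P' := (mem_normalizer_iff.1 hδN s).1 hsP
  set w := δ * s * δ⁻¹ * s⁻¹ with hw
  have hwP : w ∈ P' := mul_mem hsδ (inv_mem hsP)
  have hcommP : ∀ a ∈ P', ∀ b ∈ P', Commute a b := by
    intro a ha b hb
    obtain ⟨i, c, hc, hcZ, rfl⟩ := hgen a ha
    obtain ⟨j, c', hc', hcZ', rfl⟩ := hgen b hb
    exact ((Commute.pow_pow_self s i j).mul_right (hcentral c' hc' hcZ' _)).mul_left
      (hcentral c hc hcZ _).symm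
  have hw7 : w ^ 7 = 1 := by
    have h1 : Commute (δ * s * δ⁻¹) s⁻¹ := (hcommP _ hsδ _ hsP).inv_right
    rw [hw, h1.mul_pow, conj_pow, (hcentral (s ^ 7) (pow_mem hsP 7) hs7 δ).eq, inv_pow,
      mul_inv_cancel_right, mul_inv_cancel]
  -- `f a = δ a δ⁻¹ a⁻¹` on `P'`
  have hf : ∀ a ∈ P', ∃ i : ℕ, δ * a * δ⁻¹ * a⁻¹ = w ^ i := by
    intro a ha
    obtain ⟨i, c, hc, hcZ, rfl⟩ := hgen a ha
    refine ⟨i, ?_⟩
    rw [hw, ((hcommP _ hsδ _ hsP).inv_right).mul_pow, conj_pow, inv_pow]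
    calc δ * (s ^ i * c) * δ⁻¹ * (s ^ i * c)⁻¹
        = δ * s ^ i * (c * δ⁻¹) * c⁻¹ * (s ^ i)⁻¹ := by group
      _ = δ * s ^ i * (δ⁻¹ * c) * c⁻¹ * (s ^ i)⁻¹ := by rw [(hcentral c hc hcZ δ⁻¹).eq]
      _ = _ := by group
  have hcent3 : δ * w * δ⁻¹ = w → w = 1 := by
    intro h
    have hδs : δ * s * δ⁻¹ = w * s := by rw [hw, inv_mul_cancel_right]
    have e2 : δ * (δ * s * δ⁻¹) * δ⁻¹ = w * (w * s) := by
      rw [hδs, show δ * (w * s) * δ⁻¹ = (δ * w * δ⁻¹) * (δ * s * δ⁻¹) by group, h, hδs]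
    have e3 : δ * (δ * (δ * s * δ⁻¹) * δ⁻¹) * δ⁻¹ = w * (w * (w * s)) := by
      rw [e2, show δ * (w * (w * s)) * δ⁻¹ = (δ * w * δ⁻¹) * ((δ * w * δ⁻¹) * (δ * s * δ⁻¹)) by
        group, h, hδs]
    have e4 : w ^ 3 = 1 := by
      rw [show δ * (δ * (δ * s * δ⁻¹) * δ⁻¹) * δ⁻¹ = δ ^ 3 * s * (δ ^ 3)⁻¹ by
          rw [pow_succ, pow_two]; group, hδ3, inv_one,
        mul_one, one_mul, ← mul_assoc, ← mul_assoc, right_eq_mul] at e3
      rw [pow_succ, pow_two]
      exact e3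
    exact orderOf_eq_one_iff.1 (Nat.eq_one_of_dvd_coprimes (show Nat.Coprime 3 7 by norm_num)
      (orderOf_dvd_of_pow_eq_one e4) (orderOf_dvd_of_pow_eq_one hw7))
  have hw1 : w ≠ 1 := by
    intro h1
    have hδs : Commute δ s := mul_inv_eq_iff_eq_mul.1 (mul_inv_eq_one.1 h1)
    let X := {v : G // v ∈ (S : Subgroup G) ∧ v ≠ 1}
    letI : MulAction ↥N X :=
      { smul := fun g v => ⟨(g : G) * v * (g : G)⁻¹, (mem_normalizer_iff.1 g.2 _).1 v.2.1,
          fun h => v.2.2 (conj_eq_one_iff.1 h)⟩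
        one_smul := fun v => Subtype.ext (show (1 : G) * v * (1 : G)⁻¹ = v by group)
        mul_smul := fun g g' v => Subtype.ext (show ((g * g' : ↥N) : G) * v * ((g * g' : ↥N) : G)⁻¹ =
          (g : G) * ((g' : G) * v * (g' : G)⁻¹) * (g : G)⁻¹ by rw [Subgroup.coe_mul]; group) }
    have hX : Nat.card X = 7 := by
      show Nat.card ↥{v : G | v ∈ (S : Subgroup G) ∧ v ≠ 1} = 7
      rw [Nat.card_coe_set_eq, show {v : G | v ∈ (S : Subgroup G) ∧ v ≠ 1} =
        ((S : Subgroup G) : Set G) \ {1} from rfl,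
        Set.ncard_sdiff_singleton_of_mem (one_mem _), ← Nat.card_coe_set_eq]
      show Nat.card ↥(S : Subgroup G) - 1 = 7
      rw [C.jr.card_sylow S]
    have hfixall : ∀ g : ↥N, (∀ v : X, g • v = v) → g ∈ Z := by
      intro g h
      refine mem_subgroupOf.2 (mem_centralizer_iff.2 fun v hv => ?_)
      by_cases hv1 : v = 1
      · rw [hv1, one_mul, mul_one]
      · exact (mul_inv_eq_iff_eq_mul.1
          (show (g : G) * v * (g : G)⁻¹ = v from congrArg Subtype.val (h ⟨v, hv, hv1⟩))).symm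
    haveI : Finite X := Nat.finite_of_card_ne_zero (by omega)
    have hs : IsPGroup 7 ↥(zpowers s) := hP'p.to_le (zpowers_le.2 hsP)
    have hδ' : IsPGroup 3 ↥(zpowers δ) :=
      IsPGroup.of_card (n := 1) (by rw [Nat.card_zpowers, hδo, pow_one])
    obtain ⟨⟨v₀, hv₀⟩⟩ : Nonempty (MulAction.fixedPoints ↥(zpowers δ) X) := by
      refine (hδ'.nonempty_fixed_point_of_prime_not_dvd_card X ?_).to_subtype
      rw [hX]
      norm_num
    have hv₀' : δ • v₀ = v₀ := hv₀ ⟨δ, mem_zpowers δ⟩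
    have hsne : ∀ v : X, s • v ≠ v := by
      intro v hv
      have hfix : (MulAction.fixedPoints ↥(zpowers s) X).Nonempty := ⟨v, fun g => by
        obtain ⟨i, hi'⟩ := mem_zpowers_iff.1 g.2
        show (g : ↥N) • v = v
        rw [← hi']
        exact MulAction.mem_stabilizer_iff.1 (zpow_mem (MulAction.mem_stabilizer_iff.2 hv) i)⟩
      have hmod := hs.card_modEq_card_fixedPoints X
      rw [hX] at hmod
      haveI := hfix.to_subtype
      have h0 : 0 < Nat.card (MulAction.fixedPoints ↥(zpowers s) X) := Nat.card_pos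
      have hle : Nat.card (MulAction.fixedPoints ↥(zpowers s) X) ≤ 7 :=
        hX ▸ Nat.card_le_card_of_injective _ Subtype.val_injective
      have h7 : 7 ∣ Nat.card (MulAction.fixedPoints ↥(zpowers s) X) :=
        Nat.modEq_zero_iff_dvd.1 (hmod.symm.trans (Nat.modEq_zero_iff_dvd.2 dvd_rfl))
      have heq := ((Nat.bijective_iff_injective_and_card
        (Subtype.val : MulAction.fixedPoints ↥(zpowers s) X → X)).2
          ⟨Subtype.val_injective, by
            rw [hX]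
            exact le_antisymm hle (Nat.le_of_dvd h0 h7)⟩).2
      exact hsZ (hfixall s fun v' => by
        obtain ⟨⟨u, hu⟩, rfl⟩ := heq v'
        exact hu ⟨s, mem_zpowers s⟩)
    obtain ⟨i, hi'⟩ := hs.card_orbit v₀
    have hi0 : i ≠ 0 := by
      intro h0
      rw [h0, pow_zero] at hi'
      have := (Nat.card_eq_one_iff_unique.1 hi').1
      refine hsne v₀ (congrArg Subtype.val (Subsingleton.elim
        (⟨s • v₀, ⟨⟨s, mem_zpowers s⟩, rfl⟩⟩ : MulAction.orbit ↥(zpowers s) v₀)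
        ⟨v₀, MulAction.mem_orbit_self v₀⟩))
    have hsurj := ((Nat.bijective_iff_injective_and_card
      (Subtype.val : MulAction.orbit ↥(zpowers s) v₀ → X)).2 ⟨Subtype.val_injective,
        le_antisymm (Nat.card_le_card_of_injective _ Subtype.val_injective) (by
          rw [hi', hX]
          exact Nat.le_self_pow hi0 7)⟩).2
    refine hδZ (hfixall δ fun v' => ?_)
    obtain ⟨⟨u, ⟨g, hg⟩, hgu⟩, rfl⟩ := hsurj v'
    obtain ⟨j, rfl⟩ := mem_zpowers_iff.1 hg
    show δ • u = u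
    rw [← hgu]
    show δ • (s ^ j • v₀) = s ^ j • v₀
    rw [← mul_smul, (hδs.zpow_right j).eq, mul_smul, hv₀']
  have hwZ : w ∉ Z := fun h => hw1 (hcent3 (by
    rw [(hcentral w hwP h δ).eq, mul_inv_cancel_right]))
  obtain ⟨k, hk⟩ := hf _ hsδ
  have hdw : δ * w * δ⁻¹ = w ^ k := by
    rw [← hk, hw]
    group
  have how : orderOf w = 7 := orderOf_eq_prime hw7 hw1
  have hk1 : ¬ k ≡ 1 [MOD 7] := fun h => hw1 (hcent3 (by
    rw [hdw]
    nth_rewrite 2 [← pow_one w]
    rw [pow_eq_pow_iff_modEq, how]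
    exact h))
  have hk3 : k ^ 3 ≡ 1 [MOD 7] := by
    rw [← how, ← pow_eq_pow_iff_modEq, pow_one]
    have e1 : δ * (δ * (δ * w * δ⁻¹) * δ⁻¹) * δ⁻¹ = w ^ k ^ 3 := by
      rw [hdw, ← conj_pow, hdw, ← pow_mul, ← conj_pow, hdw, ← pow_mul]
      congr 1
      ring
    rw [← e1, show δ * (δ * (δ * w * δ⁻¹) * δ⁻¹) * δ⁻¹ = δ ^ 3 * w * (δ ^ 3)⁻¹ by
      rw [pow_succ, pow_two]; group, hδ3,
      inv_one, mul_one, one_mul]
  exact ⟨w, δ, k, by rw [Subgroup.orderOf_coe, how], w.2, fun h => hwZ (mem_subgroupOf.2 h), δ.2,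
    by rw [Subgroup.orderOf_coe, hδo], by simpa using congrArg Subtype.val hdw, hk1, hk3⟩

end Cfsg.Agent.Lib.Walter.NoField.SmallBad
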